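import Mathlib
import Cfsg.Prelude.Def_GeometricClasses
import Cfsg.Agent.Lib.Forms.Max.Symp

/-!
# Simple subgroups of `Sp₄(q)`, `q` even: vocabulary
-/

set_option autoImplicit false

namespace Cfsg.Agent.SpFourEven

open Matrix Cfsg.Agent.Aschbacher Cfsg.Agent.Forms.SympStd Cfsg.Agent.Forms.Max

variable {F : Type*} [Field F]

local notation "GL4" => GL (Fin 2 ⊕ Fin 2) F
local notation "Vec" => (Fin 2 ⊕ Fin 2 → F)
local notation "B" => sympB 2 F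
local notation "Mat" => Matrix (Fin 2 ⊕ Fin 2) (Fin 2 ⊕ Fin 2) F

/-- a simple irreducible subgroup of the symplectic group -/
structure Core (P : Subgroup (GL (Fin 2 ⊕ Fin 2) F)) : Prop where
  le : P ≤ Cfsg.spGL 2 F
  perfect : ⁅P, P⁆ = P
  simple : IsSimpleGroup P
  irred : Cfsg.Geo.ActsIrreducibly (Cfsg.Geo.matrixSet P)

/-- no non-degenerate quadratic form is fixed -/
def NoQuad (P : Subgroup (GL (Fin 2 ⊕ Fin 2) F)) : Prop :=
  ¬ ∃ Q : (Fin 2 ⊕ Fin 2 → F) → F,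
    Cfsg.Geo.IsNondegenerateQuadraticForm Q ∧ Cfsg.Geo.FixesQuadForm (Cfsg.Geo.matrixSet P) Q

/-- the traces generate the field -/
def FullTraces (P : Subgroup (GL (Fin 2 ⊕ Fin 2) F)) : Prop :=
  ∀ K : Subfield F, (∀ g ∈ P, Matrix.trace (g : Matrix (Fin 2 ⊕ Fin 2) (Fin 2 ⊕ Fin 2) F) ∈ K) → K = ⊤

/-- the subgroup contains a transvection -/
def HasTrv (P : Subgroup (GL (Fin 2 ⊕ Fin 2) F)) : Prop :=
  ∃ (u : Fin 2 ⊕ Fin 2 → F) (c : F), u ≠ 0 ∧ c ≠ 0 ∧ spTrv u c ∈ P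

/-- a short root involution: it moves no vector out of its perpendicular -/
def IsShort (g : GL (Fin 2 ⊕ Fin 2) F) : Prop :=
  g * g = 1 ∧ g ≠ 1 ∧
    ∀ x : Fin 2 ⊕ Fin 2 → F, sympB 2 F x ((g : Matrix (Fin 2 ⊕ Fin 2) (Fin 2 ⊕ Fin 2) F) *ᵥ x) = 0

/-- the subgroup contains a short root involution -/
def HasShort (P : Subgroup (GL (Fin 2 ⊕ Fin 2) F)) : Prop :=
  ∃ g ∈ P, IsShort g

end Cfsg.Agent.SpFourEven
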