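import Mathlib
import Cfsg.Prelude.Def_Sz
import Cfsg.Agent.Lib.SpFourEven.Trv.Main
import Cfsg.Agent.Lib.SpFourEven.Short.Main
import Cfsg.Agent.Lib.SpFourEven.Cit.Basic
import Cfsg.Agent.Lib.SpFourEven.Cit.Small
import Cfsg.Agent.Lib.SpFourEven.Cit.Suzuki
import Cfsg.Agent.Lib.SpFourEven.Cit.PSLTwo
import Cfsg.Agent.Lib.PSLThree.Rep.Descent
import Cfsg.Agent.Lib.CIT.Theorem
import Cfsg.Agent.S0252
import Cfsg.Agent.S0253

/-!
# The residual class of `Sp₄(q)`, `q` even

A residual core is simple, fixes no quadratic form and has traces generating the field.  It has no transvection and no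
short root involution, so it is a CIT group, and of those only the Suzuki group over the whole field is left.
-/

set_option autoImplicit false

namespace Cfsg.Agent.SpFourEven

open Matrix Cfsg.Agent.Aschbacher Cfsg.Agent.Forms.SympStd Cfsg.Agent.Forms.Max
open Cfsg.Agent.Forms.Max.Symp (mem_spGL_iff)

variable {F : Type*} [Field F] [Fintype F]

local notation "GL4" => GL (Fin 2 ⊕ Fin 2) F
local notation "Mat" => Matrix (Fin 2 ⊕ Fin 2) (Fin 2 ⊕ Fin 2) F

/-- the only scalar of the symplectic group in characteristic two -/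
theorem scalar_eq_one [CharP F 2] {g : GL4} (hg : g ∈ Cfsg.spGL 2 F)
    (hs : g ∈ Cfsg.Geo.scalars (Fin 2 ⊕ Fin 2) F) : g = 1 := by
  obtain ⟨c, hc⟩ := (Cfsg.Geo.mem_scalars_iff g).1 hs
  have hu : (Pi.single (.inl 0) 1 : Fin 2 ⊕ Fin 2 → F) ≠ 0 := fun h => by
    simpa using congrFun h (.inl 0)
  obtain ⟨v, hv⟩ : ∃ v, sympB 2 F (Pi.single (.inl 0) 1) v ≠ 0 := by
    by_contra hno
    push Not at hno
    exact hu (Symp.nondeg.1 _ hno)
  have h := mem_spGL_iff.1 hg (Pi.single (.inl 0) 1) v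
  simp only [hc, smul_mulVec, one_mulVec, map_smul, LinearMap.smul_apply, smul_eq_mul, ← mul_assoc] at h
  have h1 : (c : F) ^ 2 = 1 ^ 2 := by
    rw [one_pow, pow_two]
    exact (mul_eq_right₀ hv).1 h
  refine Units.ext ?_
  rw [hc, CharTwo.sq_injective h1, one_smul, Units.val_one]

/-- S5791 -/
theorem residual_class (heven : ¬ Odd (Fintype.card F)) (h4 : 4 ≤ Fintype.card F)
    {H : Subgroup (GL (Fin 2 ⊕ Fin 2) F)} (hH : Cfsg.Geo.IsMaximalIn (Cfsg.spGL 2 F) H)
    (hS : Cfsg.Geo.InSymplecticResidualClass H) :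
    ∃ (P : Subgroup (GL (Fin 2 ⊕ Fin 2) F)) (m : ℕ), Cfsg.Geo.IsResidualCore H P ∧ 1 ≤ m ∧
      Fintype.card F = 2 ^ (2 * m + 1) ∧
      Nonempty ((P ⧸ (Cfsg.Geo.scalars (Fin 2 ⊕ Fin 2) F).subgroupOf P) ≃* Cfsg.Lie.Sz F (2 ^ (m + 1))) := by
  classical
  haveI : CharP F 2 := by
    obtain ⟨p, hp⟩ := CharP.exists F
    obtain ⟨n, hp', hn⟩ := FiniteField.card F p
    rcases hp'.eq_two_or_odd' with rfl | ho
    · exact hp
    · exact absurd (hn ▸ ho.pow) heven
  obtain ⟨P, hP, hQ, -⟩ := hS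
  have hle : P ≤ Cfsg.spGL 2 F := hP.le.trans hH.1.le
  have hbot : (Cfsg.Geo.scalars (Fin 2 ⊕ Fin 2) F).subgroupOf P = ⊥ :=
    (Subgroup.eq_bot_iff_forall _).2 fun x hx => Subtype.ext (scalar_eq_one (hle x.2) hx)
  let q : (P ⧸ (Cfsg.Geo.scalars (Fin 2 ⊕ Fin 2) F).subgroupOf P) ≃* P :=
    (QuotientGroup.quotientMulEquivOfEq hbot).trans QuotientGroup.quotientBot
  haveI : IsSimpleGroup P := by
    haveI := hP.simple
    haveI : Nontrivial P := q.symm.toEquiv.nontrivial
    exact IsSimpleGroup.isSimpleGroup_of_surjective q.toMonoidHom q.surjective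
  have hnab : ¬ IsMulCommutative P := fun h => hP.nonabelian
    ⟨⟨fun a b => q.injective (by rw [map_mul, map_mul]; exact h.is_comm.comm _ _)⟩⟩
  have hC : Core P := ⟨hle, hP.perfect, inferInstance, hP.absIrred.1⟩
  have hT : FullTraces P := fun K hK => by_contra fun h => PSLThree.Rep.trace_not_subfield hP K h hK
  have hne : P ≠ Cfsg.spGL 2 F := fun e => hH.1.not_ge (e ▸ hP.le)
  have ht : ¬ HasTrv P := fun ht => by
    rcases Trv.full_or_rational hC h4 ht with h | ⟨K, hK, hr⟩
    exacts [hne h, hP.no_subfield K hK hr]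
  have hs : ¬ HasShort P := fun hs =>
    hne (Short.short_full hC hQ hT hs fun P' hC' ht' => Trv.full_or_rational hC' h4 ht')
  rcases CIT.citTheorem P hnab (isCIT hC ht hs) with
    ⟨K, _, _, hK, ⟨e⟩⟩ | ⟨K, _, _, hK, ⟨e⟩⟩ | ⟨K, _, _, m, hm, hK, ⟨e⟩⟩
  · exfalso
    rcases hK with h9 | ⟨n, hn, h2⟩ | ⟨h5, hp, -⟩
    · let K₀ : Subfield F := RingHom.eqLocusField (frobenius F 2) (RingHom.id F)
      have hK₀ : ∀ x : F, x ∈ K₀ ↔ x ^ 2 = x := fun x => by
        show frobenius F 2 x = x ↔ _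
        rw [frobenius_def]
      have htop : K₀ = ⊤ := hT K₀ fun g hg => (hK₀ _).2 (by
        rcases six_traces hC h9 e g hg with h | h <;> rw [h] <;> simp)
      have hs' : Finset.univ ⊆ ({0, 1} : Finset F) := fun x _ => by
        have hx := (hK₀ x).1 (htop ▸ Subfield.mem_top x)
        have : x * (x - 1) = 0 := by linear_combination hx
        rcases mul_eq_zero.1 this with h | h
        · simp [h]
        · simp [sub_eq_zero.1 h]
      have := Finset.card_le_card hs'
      rw [Finset.card_univ, Finset.card_pair zero_ne_one] at this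
      omega
    · exact not_psl_two_even hC hQ hT ht hs hP.absIrred n hn h2 e
    · rcases eq_or_ne (Fintype.card K) 5 with h | h
      · haveI : Fact (Nat.Prime 2) := ⟨Nat.prime_two⟩
        letI : Fintype (GaloisField 2 2) := Fintype.ofFinite _
        have h4' : Fintype.card (GaloisField 2 2) = 2 ^ 2 := by
          rw [← Nat.card_eq_fintype_card]; exact GaloisField.card 2 2 two_ne_zero
        obtain ⟨a⟩ := S0253.result h
        obtain ⟨b⟩ := S0252.result h4'
        exact not_psl_two_even hC hQ hT ht hs hP.absIrred 2 le_rfl h4' (e.trans (a.trans b.symm))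
      · have : Fintype.card K ≠ 6 := fun h6 => by rw [h6] at hp; norm_num at hp
        exact not_psl_two_odd hC hp (by omega) e
  · exact (not_psl_three_four hC hK e).elim
  · have hF := suzuki_field hC hT hm hK e
    obtain ⟨ε⟩ := suzuki_equiv hK hF e
    exact ⟨P, m, hP, hm, hF, ⟨q.trans ε⟩⟩

end Cfsg.Agent.SpFourEven
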